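import Cfsg.Agent.Lib.Lattice.ThetaPoisson

/-!
# Theta series of even unimodular lattices as modular forms

The theta series of an even positive definite unimodular matrix of size `2k`, with `4 ∣ k`,
is a modular form of level one and weight `k`; its `q`-expansion counts the vectors by norm.
-/

set_option autoImplicit false

noncomputable section

namespace CfsgLib.Lattice

open Matrix Complex UpperHalfPlane ModularForm
open scoped Real MatrixGroups Manifold

local notation "𝕢" => Function.Periodic.qParam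

variable {n : ℕ} {A : Matrix (Fin n) (Fin n) ℤ}

/-- Hypotheses on an even unimodular positive definite form. -/
structure EvenUnimodular (A : Matrix (Fin n) (Fin n) ℤ) : Prop where
  symm : A.IsSymm
  pos : ∀ x : Fin n → ℤ, x ≠ 0 → 0 < x ⬝ᵥ (A *ᵥ x)
  even : ∀ x : Fin n → ℤ, (2 : ℤ) ∣ x ⬝ᵥ (A *ᵥ x)
  det : A.det = 1

theorem EvenUnimodular.exists_root' (h : EvenUnimodular A) : ∃ R, Root A R := by
  obtain ⟨R, h1, h2, h3⟩ := exists_root h.symm h.pos h.det
  exact ⟨R, h1, h2, h3⟩

/-- The theta series. -/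
def theta (A : Matrix (Fin n) (Fin n) ℤ) (τ : ℂ) : ℂ :=
  ∑' x : Fin n → ℤ, gauss A (-Complex.I * τ) (rv x)

/-- The number of vectors of norm `2m`. -/
def normCount (A : Matrix (Fin n) (Fin n) ℤ) (m : ℕ) : ℕ :=
  {x : Fin n → ℤ | x ⬝ᵥ (A *ᵥ x) = 2 * (m : ℤ)}.ncard

theorem finite_norm (h : EvenUnimodular A) (m : ℤ) :
    {x : Fin n → ℤ | x ⬝ᵥ (A *ᵥ x) = m}.Finite := by
  obtain ⟨R, hR⟩ := h.exists_root'
  obtain ⟨c, hc, hq⟩ := hR.coercive
  refine (Set.Finite.pi fun _ => Set.finite_Icc (-⌈(m : ℝ) / c⌉) ⌈(m : ℝ) / c⌉).subset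
    fun x hx i _ => ?_
  have h1 : ((x i ^ 2 : ℤ) : ℝ) ≤ (m : ℝ) / c := by
    rw [le_div_iff₀ hc, mul_comm]
    refine le_trans ?_ ((hq (rv x)).trans_eq (by rw [qf_rv, hx]))
    push_cast
    exact mul_le_mul_of_nonneg_left
      (Finset.single_le_sum (f := fun j => rv x j ^ 2) (fun j _ => sq_nonneg _) (Finset.mem_univ i))
      hc.le
  have h2 : x i ^ 2 ≤ ⌈(m : ℝ) / c⌉ := Int.cast_le.1 (h1.trans (Int.le_ceil _))
  exact ⟨by nlinarith [Int.le_self_sq (-x i)] , (Int.le_self_sq (x i)).trans h2⟩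

theorem re_neg_I_mul (τ : ℂ) : (-Complex.I * τ).re = τ.im := by simp

/-- The `q`-expansion of the theta series. -/
theorem hasSum_theta (h : EvenUnimodular A) (τ : ℍ) :
    HasSum (fun m : ℕ => (normCount A m : ℂ) • 𝕢 1 (τ : ℂ) ^ m) (theta A τ) := by
  obtain ⟨R, hR⟩ := h.exists_root'
  have hs := (summable_gauss hR (a := -Complex.I * τ) (by rw [re_neg_I_mul]; exact τ.im_pos)).hasSum
  let N : (Fin n → ℤ) → ℕ := fun x => ((x ⬝ᵥ (A *ᵥ x)) / 2).toNat
  have hN : ∀ x, x ⬝ᵥ (A *ᵥ x) = 2 * (N x : ℤ) := by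
    intro x
    obtain ⟨d, hd⟩ := h.even x
    have h0 : 0 ≤ x ⬝ᵥ (A *ᵥ x) := by
      rcases eq_or_ne x 0 with rfl | hx
      · simp
      · exact (h.pos x hx).le
    simp only [N]
    omega
  have hval : ∀ x, gauss A (-Complex.I * τ) (rv x) = 𝕢 1 (τ : ℂ) ^ N x := by
    intro x
    rw [gauss, qf_rv, hN x, Function.Periodic.qParam, ← Complex.exp_nat_mul]
    congr 1
    push_cast
    ring
  refine HasSum.sigma ((Equiv.sigmaFiberEquiv N).hasSum_iff.2 hs) fun m => ?_
  have hfib : {x | N x = m} = {x : Fin n → ℤ | x ⬝ᵥ (A *ᵥ x) = 2 * (m : ℤ)} := by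
    ext x; simp only [Set.mem_ofPred_eq]; have := hN x; omega
  have : Fintype {x // N x = m} :=
    (show {x | N x = m}.Finite by rw [hfib]; exact finite_norm h _).fintype
  have hcard : Fintype.card {x // N x = m} = normCount A m := by
    rw [normCount, ← hfib, ← Nat.card_coe_set_eq, ← Nat.card_eq_fintype_card]
    rfl
  have hfun : (fun c => ((fun x => gauss A (-Complex.I * τ) (rv x)) ∘ ⇑(Equiv.sigmaFiberEquiv N))
      ⟨m, c⟩) = fun _ : {x // N x = m} => 𝕢 1 (τ : ℂ) ^ m := by
    funext x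
    show gauss A (-Complex.I * τ) (rv x.1) = _
    rw [hval, x.2]
  rw [hfun]
  convert hasSum_fintype (fun _ : {x // N x = m} => 𝕢 1 (τ : ℂ) ^ m) using 1
  rw [Finset.sum_const, Finset.card_univ, hcard, nsmul_eq_mul, smul_eq_mul]

theorem differentiableOn_theta (h : EvenUnimodular A) :
    DifferentiableOn ℂ (theta A) {z : ℂ | 0 < z.im} := by
  obtain ⟨R, hR⟩ := h.exists_root'
  intro z hz
  set ε := z.im / 2 with hε
  have hε0 : 0 < ε := half_pos hz
  have hU : IsOpen {w : ℂ | ε < w.im} := isOpen_lt continuous_const continuous_im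
  have hd : DifferentiableOn ℂ (theta A) {w : ℂ | ε < w.im} := by
    refine differentiableOn_tsum_of_summable_norm
      (summable_gauss hR (a := (ε : ℂ)) (by simpa using hε0)).norm (fun x => ?_) hU fun x w hw => ?_
    · unfold gauss
      fun_prop
    · rw [norm_gauss, norm_gauss, re_neg_I_mul, Complex.ofReal_re, Real.exp_le_exp, neg_le_neg_iff]
      exact mul_le_mul_of_nonneg_right (mul_le_mul_of_nonneg_left (le_of_lt hw) Real.pi_pos.le)
        (qf_nonneg h.pos _)
  exact ((hd z (by simp [hε]; exact hz)).differentiableAt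
    (hU.mem_nhds (by simp [hε]; exact hz))).differentiableWithinAt

set_option backward.isDefEq.respectTransparency.types false in
theorem theta_T (h : EvenUnimodular A) (k : ℤ) :
    (fun τ : ℍ => theta A τ) ∣[k] ModularGroup.T = fun τ : ℍ => theta A τ := by
  funext τ
  rw [SL_slash_apply, UpperHalfPlane.modular_T_smul, denom]
  simp only [ModularGroup.T, theta, UpperHalfPlane.coe_vadd]
  simp
  refine tsum_congr fun x => ?_
  obtain ⟨d, hd⟩ := h.even x
  simp only [gauss, qf_rv, hd]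
  rw [Complex.exp_eq_exp_iff_exists_int]
  refine ⟨d, ?_⟩
  push_cast
  ring

theorem theta_S (h : EvenUnimodular A) {k : ℕ} (hn : n = 2 * k) (hk : 4 ∣ k) :
    (fun τ : ℍ => theta A τ) ∣[(k : ℤ)] ModularGroup.S = fun τ : ℍ => theta A τ := by
  funext τ
  rw [SL_slash_apply, modular_S_smul, ModularGroup.denom_S]
  have hτ : (τ : ℂ) ≠ 0 := τ.ne_zero
  have hmain := tsum_gauss_eq h.symm h.pos h.det hn (a := -Complex.I * τ)
    (by rw [re_neg_I_mul]; exact τ.im_pos)
  have hinv : (-Complex.I * (τ : ℂ))⁻¹ = -Complex.I * (-(τ : ℂ))⁻¹ := by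
    field_simp
    simp [Complex.I_sq]
  obtain ⟨j, hj⟩ := hk
  have hI : (-Complex.I) ^ k = 1 := by
    rw [hj, pow_mul, show (-Complex.I) ^ 4 = 1 by rw [neg_pow, Complex.I_pow_four]; norm_num, one_pow]
  simp only [theta]
  rw [hmain, inv_pow, mul_pow, hI, one_mul, hinv, _root_.zpow_neg, zpow_natCast, mul_comm]

/-- The theta series as a modular form of level one. -/
def thetaForm (h : EvenUnimodular A) {k : ℕ} (hn : n = 2 * k) (hk : 4 ∣ k) :
    ModularForm 𝒮ℒ (k : ℤ) where
  toFun := fun τ : ℍ => theta A τ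
  slash_action_eq' g hg := by
    obtain ⟨g, rfl⟩ := hg
    exact SlashInvariantForm.slash_action_generators_SL2Z (theta_S h hn hk) (theta_T h _) g
  holo' := by
    rw [UpperHalfPlane.mdifferentiable_iff]
    refine (differentiableOn_theta h).congr fun z hz => ?_
    simp [ofComplex_apply_of_im_pos hz]
  bdd_at_cusps' hc := by
    rw [Subgroup.IsArithmetic.isCusp_iff_isCusp_SL2Z] at hc
    rw [OnePoint.isBoundedAt_iff_forall_SL2Z hc]
    intro g _
    rw [SlashInvariantForm.slash_action_generators_SL2Z (theta_S h hn hk) (theta_T h _) g]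
    exact isBoundedAtImInfty_of_hasSum_qExpansion one_pos (hasSum_theta h)

theorem thetaForm_coeff (h : EvenUnimodular A) {k : ℕ} (hn : n = 2 * k) (hk : 4 ∣ k) (m : ℕ) :
    (qExpansion 1 (thetaForm h hn hk)).coeff m = (normCount A m : ℂ) :=
  (ModularFormClass.qExpansion_coeff_unique one_pos one_mem_strictPeriods_SL
    (f := thetaForm h hn hk) (hasSum_theta h) m).symm

theorem normCount_zero (h : EvenUnimodular A) : normCount A 0 = 1 := by
  rw [normCount, Set.ncard_eq_one]
  refine ⟨0, Set.eq_singleton_iff_unique_mem.2 ⟨by simp, fun x hx => ?_⟩⟩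
  by_contra hne
  have := h.pos x hne
  simp only [Set.mem_ofPred_eq] at hx
  omega

end CfsgLib.Lattice
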