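import Mathlib

/-!
# Poisson summation for Gaussians of unimodular lattices

For an integral positive definite matrix `A` of determinant one and size `2k`,
`∑ exp(-π a xᵀAx) = a⁻ᵏ ∑ exp(-π a⁻¹ xᵀAx)` for `0 < re a`.
-/

set_option autoImplicit false

noncomputable section

namespace CfsgLib.Lattice

open MeasureTheory Matrix Complex
open scoped Real

variable {n : ℕ}

/-- The real quadratic form of an integral matrix. -/
def qf (A : Matrix (Fin n) (Fin n) ℤ) (x : Fin n → ℝ) : ℝ :=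
  x ⬝ᵥ (A.map (fun t : ℤ => (t : ℝ)) *ᵥ x)

/-- An integer vector as a real vector. -/
def rv (x : Fin n → ℤ) : Fin n → ℝ := fun i => (x i : ℝ)

theorem qf_rv (A : Matrix (Fin n) (Fin n) ℤ) (x : Fin n → ℤ) :
    qf A (rv x) = ((x ⬝ᵥ (A *ᵥ x) : ℤ) : ℝ) := by
  simp [qf, rv, dotProduct, Matrix.mulVec]

theorem qf_nonneg {A : Matrix (Fin n) (Fin n) ℤ}
    (hpos : ∀ x : Fin n → ℤ, x ≠ 0 → 0 < x ⬝ᵥ (A *ᵥ x)) (x : Fin n → ℝ) : 0 ≤ qf A x := by
  have hd : DenseRange (Pi.map fun (_ : Fin n) (r : ℚ) => (r : ℝ)) :=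
    DenseRange.piMap fun _ => Rat.denseRange_cast
  refine hd.induction_on x (isClosed_le continuous_const ?_) fun r => ?_
  · unfold qf dotProduct Matrix.mulVec
    fun_prop
  · let d : ℕ := ∏ i, (r i).den
    have hd0 : 0 < d := Finset.prod_pos fun i _ => (r i).pos
    let z : Fin n → ℤ := fun i => (r i).num * ((d / (r i).den : ℕ) : ℤ)
    have hz : rv z = (d : ℝ) • (fun i => ((r i : ℚ) : ℝ)) := by
      funext i
      obtain ⟨m, hm⟩ : (r i).den ∣ d := Finset.dvd_prod_of_mem _ (Finset.mem_univ i)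
      have hden : ((r i).den : ℝ) ≠ 0 := Nat.cast_ne_zero.2 (r i).den_nz
      simp only [rv, z, Pi.smul_apply, smul_eq_mul, Int.cast_mul, Int.cast_natCast]
      rw [hm, Nat.mul_div_cancel_left _ (r i).pos, Rat.cast_def (r i), Nat.cast_mul]
      field_simp
    have h0 : 0 ≤ qf A (rv z) := by
      rw [qf_rv]
      by_cases hz0 : z = 0
      · simp [hz0]
      · exact_mod_cast (hpos z hz0).le
    rw [hz, qf, Matrix.mulVec_smul, smul_dotProduct, dotProduct_smul, smul_smul, smul_eq_mul] at h0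
    exact nonneg_of_mul_nonneg_right h0 (mul_pos (Nat.cast_pos.2 hd0) (Nat.cast_pos.2 hd0))

/-- A symmetric square root of a unimodular positive form. -/
theorem exists_root {A : Matrix (Fin n) (Fin n) ℤ} (hsymm : A.IsSymm)
    (hpos : ∀ x : Fin n → ℤ, x ≠ 0 → 0 < x ⬝ᵥ (A *ᵥ x)) (hdet : A.det = 1) :
    ∃ R : Matrix (Fin n) (Fin n) ℝ, R.IsSymm ∧ R * R = A.map (fun t : ℤ => (t : ℝ)) ∧ |R.det| = 1 := by
  classical
  open scoped MatrixOrder in
  set M := A.map (fun t : ℤ => (t : ℝ)) with hM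
  open scoped MatrixOrder in
  have hp : M.PosSemidef := by
    refine Matrix.PosSemidef.of_dotProduct_mulVec_nonneg ?_ fun x => ?_
    · rw [Matrix.IsHermitian, conjTranspose_eq_transpose_of_trivial, hM, ← transpose_map, hsymm.eq]
    · simpa [qf] using qf_nonneg hpos x
  open scoped MatrixOrder in
  have h1 : CFC.sqrt M * CFC.sqrt M = M := CFC.sqrt_mul_sqrt_self M hp.nonneg
  open scoped MatrixOrder in
  refine ⟨CFC.sqrt M, ?_, h1, ?_⟩
  · open scoped MatrixOrder in
    have := (CFC.sqrt_nonneg M).posSemidef.1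
    rwa [Matrix.IsHermitian, conjTranspose_eq_transpose_of_trivial] at this
  · open scoped MatrixOrder in
    have h2 := congrArg Matrix.det h1
    rw [det_mul, hM] at h2
    rw [← hM] at h2
    have h3 : M.det = 1 := by
      have := Int.cast_det (R := ℝ) A
      rw [hdet] at this
      simpa [hM] using this.symm
    rw [h3] at h2
    exact (abs_eq zero_le_one).2 (mul_self_eq_one_iff.1 h2)

/-- The properties of a square root. -/
structure Root (A : Matrix (Fin n) (Fin n) ℤ) (R : Matrix (Fin n) (Fin n) ℝ) : Prop where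
  symm : R.IsSymm
  sq : R * R = A.map (fun t : ℤ => (t : ℝ))
  det : |R.det| = 1

variable {A : Matrix (Fin n) (Fin n) ℤ} {R : Matrix (Fin n) (Fin n) ℝ}

theorem Root.dot (h : Root A R) (x y : Fin n → ℝ) :
    (R *ᵥ x) ⬝ᵥ (R *ᵥ y) = x ⬝ᵥ (A.map (fun t : ℤ => (t : ℝ)) *ᵥ y) := by
  rw [← h.sq, ← mulVec_mulVec, dotProduct_mulVec x R, ← mulVec_transpose, h.symm.eq]

theorem Root.qf_eq (h : Root A R) (x : Fin n → ℝ) : qf A x = ∑ i, (R *ᵥ x) i ^ 2 := by
  rw [qf, ← h.dot, dotProduct]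
  exact Finset.sum_congr rfl fun i _ => (pow_two _).symm

theorem Root.coercive (h : Root A R) : ∃ c > 0, ∀ x, c * ∑ i, x i ^ 2 ≤ qf A x := by
  set C := 1 + ∑ i, ∑ j, R⁻¹ i j ^ 2 with hC
  have hC0 : 0 < C := by
    have : 0 ≤ ∑ i, ∑ j, R⁻¹ i j ^ 2 := by positivity
    linarith
  refine ⟨C⁻¹, inv_pos.2 hC0, fun x => ?_⟩
  rw [inv_mul_le_iff₀ hC0, h.qf_eq]
  have hu : IsUnit R.det := isUnit_iff_ne_zero.2 fun e => by simpa [e] using h.det
  have hx : R⁻¹ *ᵥ (R *ᵥ x) = x := by rw [mulVec_mulVec, nonsing_inv_mul _ hu, one_mulVec]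
  calc ∑ i, x i ^ 2 ≤ ∑ i, (∑ j, R⁻¹ i j ^ 2) * ∑ j, (R *ᵥ x) j ^ 2 := by
        refine Finset.sum_le_sum fun i _ => ?_
        conv_lhs => rw [← hx]
        exact Finset.sum_mul_sq_le_sq_mul_sq (Finset.univ : Finset (Fin n)) (fun j => R⁻¹ i j) (R *ᵥ x)
    _ = (∑ i, ∑ j, R⁻¹ i j ^ 2) * ∑ j, (R *ᵥ x) j ^ 2 := (Finset.sum_mul _ _ _).symm
    _ ≤ C * _ := mul_le_mul_of_nonneg_right (by simp [hC]) (by positivity)

theorem summable_pi_prod : ∀ (m : ℕ) {g : ℤ → ℝ}, Summable g → (∀ x, 0 ≤ g x) →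
    Summable fun x : Fin m → ℤ => ∏ i, g (x i)
  | 0, _, _, _ => Summable.of_finite
  | m + 1, g, hg, h0 => by
    rw [← (Fin.consEquiv fun _ : Fin (m + 1) => ℤ).summable_iff]
    refine (Summable.mul_of_nonneg hg (summable_pi_prod m hg h0) h0
      fun x => Finset.prod_nonneg fun i _ => h0 _).congr fun x => ?_
    simp [Fin.prod_univ_succ, Fin.consEquiv]

theorem summable_exp_sq {c : ℝ} (hc : 0 < c) :
    Summable fun x : Fin n → ℤ => Real.exp (-c * ∑ i, (x i : ℝ) ^ 2) := by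
  have h1 : Summable fun j : ℕ => Real.exp (-c * (j : ℝ) ^ 2) := by
    refine (Real.summable_exp_nat_mul_iff.2 (neg_lt_zero.2 hc)).of_nonneg_of_le
      (fun j => (Real.exp_pos _).le) fun j => Real.exp_le_exp.2 ?_
    rcases Nat.eq_zero_or_pos j with rfl | hj
    · simp
    · nlinarith [show (1 : ℝ) ≤ j by exact_mod_cast hj, mul_pos hc (Nat.cast_pos.2 hj)]
  have h2 : Summable fun j : ℤ => Real.exp (-c * (j : ℝ) ^ 2) :=
    Summable.of_nat_of_neg (by simpa using h1) (by simpa using h1)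
  refine (summable_pi_prod n h2 fun j => (Real.exp_pos _).le).congr fun x => ?_
  rw [← Real.exp_sum, Finset.mul_sum]

/-- The Gaussian of `A`. -/
def gauss (A : Matrix (Fin n) (Fin n) ℤ) (a : ℂ) (x : Fin n → ℝ) : ℂ :=
  cexp (-(π : ℂ) * a * (qf A x : ℂ))

theorem continuous_gauss (A : Matrix (Fin n) (Fin n) ℤ) (a : ℂ) : Continuous (gauss A a) := by
  unfold gauss qf dotProduct Matrix.mulVec
  fun_prop

theorem norm_gauss (A : Matrix (Fin n) (Fin n) ℤ) (a : ℂ) (x : Fin n → ℝ) :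
    ‖gauss A a x‖ = Real.exp (-(π * a.re * qf A x)) := by
  simp [gauss, Complex.norm_exp, mul_assoc]

theorem gauss_bound (h : Root A R) {a : ℂ} (ha : 0 < a.re) :
    ∃ c > 0, ∀ x y : Fin n → ℝ,
      ‖gauss A a (y + x)‖ ≤ Real.exp (c * ∑ i, y i ^ 2) * Real.exp (-(c / 2) * ∑ i, x i ^ 2) := by
  obtain ⟨c, hc, hq⟩ := h.coercive
  refine ⟨π * a.re * c, by positivity, fun x y => ?_⟩
  rw [norm_gauss, ← Real.exp_add, Real.exp_le_exp]
  have h1 : ∑ i, x i ^ 2 / 2 - ∑ i, y i ^ 2 ≤ ∑ i, (y + x) i ^ 2 := by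
    rw [← Finset.sum_sub_distrib]
    refine Finset.sum_le_sum fun i _ => ?_
    simp only [Pi.add_apply]
    nlinarith [sq_nonneg (2 * y i + x i)]
  rw [← Finset.sum_div] at h1
  nlinarith [mul_le_mul_of_nonneg_left ((mul_le_mul_of_nonneg_left h1 hc.le).trans (hq (y + x)))
    (show 0 ≤ π * a.re by positivity)]

theorem summable_gauss_add (h : Root A R) {a : ℂ} (ha : 0 < a.re) (y : Fin n → ℝ) :
    Summable fun x : Fin n → ℤ => gauss A a (y + rv x) := by
  obtain ⟨c, hc, hb⟩ := gauss_bound h ha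
  exact .of_norm_bounded ((summable_exp_sq (half_pos hc)).mul_left _) fun x => hb (rv x) y

theorem summable_gauss (h : Root A R) {a : ℂ} (ha : 0 < a.re) :
    Summable fun x : Fin n → ℤ => gauss A a (rv x) := by
  simpa using summable_gauss_add h ha 0

/-- The periodisation of the Gaussian. -/
def per (A : Matrix (Fin n) (Fin n) ℤ) (a : ℂ) (y : Fin n → ℝ) : ℂ :=
  ∑' x : Fin n → ℤ, gauss A a (y + rv x)

theorem continuous_per (h : Root A R) {a : ℂ} (ha : 0 < a.re) : Continuous (per A a) := by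
  obtain ⟨c, hc, hb⟩ := gauss_bound h ha
  refine continuous_iff_continuousAt.2 fun y₀ => ?_
  set M := ∑ i, y₀ i ^ 2 + 1 with hM
  have ho : IsOpen {y : Fin n → ℝ | ∑ i, y i ^ 2 < M} := isOpen_lt (by fun_prop) continuous_const
  refine (continuousOn_tsum (fun x => ((continuous_gauss A a).comp
      (continuous_id.add continuous_const)).continuousOn)
    ((summable_exp_sq (half_pos hc)).mul_left (Real.exp (c * M)))
    fun x y hy => (hb (rv x) y).trans ?_).continuousAt (ho.mem_nhds (by simp [hM]))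
  refine mul_le_mul_of_nonneg_right (Real.exp_le_exp.2 (mul_le_mul_of_nonneg_left ?_ hc.le))
    (Real.exp_pos _).le
  exact le_of_lt hy

theorem per_add_int (A : Matrix (Fin n) (Fin n) ℤ) (a : ℂ) (y : Fin n → ℝ) (z : Fin n → ℤ) :
    per A a (y + rv z) = per A a y := by
  conv_rhs => rw [per, ← (Equiv.addLeft z).tsum_eq]
  refine tsum_congr fun x => congrArg (gauss A a) ?_
  funext i
  simp [rv, add_assoc]

/-- The periodisation on the torus. -/
def perTorus (A : Matrix (Fin n) (Fin n) ℤ) (a : ℂ) (t : UnitAddTorus (Fin n)) : ℂ :=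
  per A a fun i => (AddCircle.equivIco 1 0 (t i) : ℝ)

theorem perTorus_coe (A : Matrix (Fin n) (Fin n) ℤ) (a : ℂ) (y : Fin n → ℝ) :
    perTorus A a (fun i => (y i : UnitAddCircle)) = per A a y := by
  have hd : ∀ i, ∃ k : ℤ, (AddCircle.equivIco (1 : ℝ) 0 (y i : UnitAddCircle) : ℝ) = y i + k := by
    intro i
    set r := (AddCircle.equivIco (1 : ℝ) 0 (y i : UnitAddCircle) : ℝ)
    have e : (r : UnitAddCircle) = (y i : UnitAddCircle) := AddCircle.coe_equivIco
    obtain ⟨k, hk⟩ := (AddCircle.coe_eq_zero_iff (p := (1:ℝ)) (x := r - y i)).1 (by rw [AddCircle.coe_sub, e, sub_self])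
    refine ⟨k, ?_⟩
    simp only [zsmul_eq_mul, mul_one] at hk
    linarith
  choose k hk using hd
  rw [perTorus, ← per_add_int A a y k]
  exact congrArg (per A a) (funext fun i => hk i)

theorem continuous_perTorus (h : Root A R) {a : ℂ} (ha : 0 < a.re) : Continuous (perTorus A a) := by
  have hq : IsOpenQuotientMap (Pi.map fun (_ : Fin n) (r : ℝ) => (r : UnitAddCircle)) :=
    IsOpenQuotientMap.piMap fun _ => QuotientAddGroup.isOpenQuotientMap_mk
  rw [hq.isQuotientMap.continuous_iff]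
  exact (continuous_per h ha).congr fun y => (perTorus_coe A a y).symm

/-- The half-open unit cube at a lattice point. -/
def cube (x : Fin n → ℤ) : Set (Fin n → ℝ) :=
  {y | ∀ i, y i ∈ Set.Ioc (x i : ℝ) ((x i : ℝ) + 1)}

theorem measurableSet_cube (x : Fin n → ℤ) : MeasurableSet (cube x) := by
  have : cube x = Set.pi Set.univ fun i => Set.Ioc (x i : ℝ) ((x i : ℝ) + 1) := by
    ext y; simp [cube]
  rw [this]
  exact MeasurableSet.univ_pi fun i => measurableSet_Ioc

theorem cube_disjoint : Pairwise (Function.onFun Disjoint (cube (n := n))) := by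
  refine fun x y hne => Set.disjoint_left.2 fun u hu hv => hne (funext fun i => ?_)
  have h1 := hu i; have h2 := hv i
  have e1 : ⌈u i⌉ = x i + 1 := Int.ceil_eq_iff.2 ⟨by push_cast; linarith [h1.1], by push_cast; exact h1.2⟩
  have e2 : ⌈u i⌉ = y i + 1 := Int.ceil_eq_iff.2 ⟨by push_cast; linarith [h2.1], by push_cast; exact h2.2⟩
  omega

theorem iUnion_cube : ⋃ x : Fin n → ℤ, cube x = Set.univ := by
  refine Set.eq_univ_of_forall fun u => Set.mem_iUnion.2 ⟨fun i => ⌈u i⌉ - 1, fun i => ?_⟩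
  have h1 := Int.ceil_lt_add_one (u i)
  have h2 := Int.le_ceil (u i)
  push_cast
  exact ⟨by linarith, by linarith⟩

theorem tsum_integral_cube {E : Type*} [NormedAddCommGroup E] [NormedSpace ℝ E]
    {g : (Fin n → ℝ) → E} (hg : Integrable g) :
    HasSum (fun x : Fin n → ℤ => ∫ u in cube 0, g (u + rv x)) (∫ u, g u) := by
  have h := hasSum_integral_iUnion (fun x => measurableSet_cube (n := n) x) cube_disjoint
    hg.integrableOn
  rw [iUnion_cube, setIntegral_univ] at h
  refine h.congr_fun fun x => ?_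
  rw [← (measurePreserving_add_right volume (rv x)).setIntegral_preimage_emb
    (MeasurableEquiv.addRight (rv x)).measurableEmbedding g (cube x)]
  congr 2
  ext u
  simp only [cube, rv, Set.mem_preimage, Set.mem_ofPred_eq, Pi.add_apply, Pi.zero_apply,
    Int.cast_zero, zero_add, Set.mem_Ioc]
  exact forall_congr' fun i => ⟨fun ⟨h1, h2⟩ => ⟨by linarith, by linarith⟩,
    fun ⟨h1, h2⟩ => ⟨by linarith, by linarith⟩⟩

theorem sum_mul_rv (m : Fin n → ℤ) (u : Fin n → ℝ) :
    UnitAddTorus.mFourier (-m) (fun i => (u i : UnitAddCircle))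
      = cexp (∑ i, -(2 * π * I * (m i : ℂ)) * (u i : ℂ)) := by
  rw [Complex.exp_sum]
  show ∏ i, fourier ((-m) i) ((u i : UnitAddCircle)) = _
  refine Finset.prod_congr rfl fun i _ => ?_
  rw [fourier_coe_apply]
  congr 1
  push_cast [Pi.neg_apply]
  ring

theorem gauss_twist (h : Root A R) (a : ℂ) (p : Fin n → ℤ) (u : Fin n → ℝ) :
    UnitAddTorus.mFourier (-(A *ᵥ p)) (fun i => (u i : UnitAddCircle)) * gauss A a u =
      cexp (-((π : ℂ) * a) * ∑ i, ((R *ᵥ u) i : ℂ) ^ 2
        + ∑ i, (-(2 * π * I) * ((R *ᵥ rv p) i : ℂ)) * ((R *ᵥ u) i : ℂ)) := by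
  rw [sum_mul_rv, gauss, ← Complex.exp_add, add_comm]
  congr 1
  congr 1
  · rw [h.qf_eq]; push_cast; ring
  · have e : (rv (A *ᵥ p)) ⬝ᵥ u = (R *ᵥ rv p) ⬝ᵥ (R *ᵥ u) := by
      rw [dotProduct_comm, dotProduct_comm (R *ᵥ rv p), h.dot]
      congr 1
      funext i
      simp [rv, Matrix.mulVec, dotProduct]
    have e' : (∑ i, ((A *ᵥ p) i : ℂ) * (u i : ℂ))
        = ∑ i, ((R *ᵥ rv p) i : ℂ) * ((R *ᵥ u) i : ℂ) := by
      have := congrArg (fun r : ℝ => (r : ℂ)) e
      simpa [dotProduct, rv] using this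
    calc ∑ i, -(2 * π * I * ((A *ᵥ p) i : ℂ)) * (u i : ℂ)
        = -(2 * π * I) * ∑ i, ((A *ᵥ p) i : ℂ) * (u i : ℂ) := by
          rw [Finset.mul_sum]
          exact Finset.sum_congr rfl fun i _ => by ring
      _ = _ := by
          rw [e', Finset.mul_sum]
          exact Finset.sum_congr rfl fun i _ => by ring

theorem root_measurePreserving (h : Root A R) :
    MeasurePreserving (Matrix.toLin' R) (volume : Measure (Fin n → ℝ)) volume := by
  have hdet : R.det ≠ 0 := fun e => by simpa [e] using h.det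
  refine ⟨(LinearMap.continuous_on_pi _).measurable, ?_⟩
  rw [Real.map_matrix_volume_pi_eq_smul_volume_pi hdet, abs_inv, h.det]
  simp

theorem root_embedding (h : Root A R) : MeasurableEmbedding (Matrix.toLin' R) := by
  have hdet : IsUnit R.det := isUnit_iff_ne_zero.2 fun e => by simpa [e] using h.det
  refine Continuous.measurableEmbedding (LinearMap.continuous_on_pi _) fun x y e => ?_
  have := congrArg (fun v => R⁻¹ *ᵥ v) e
  simpa [Matrix.toLin'_apply, mulVec_mulVec, nonsing_inv_mul _ hdet] using this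

theorem fourier_gauss (h : Root A R) {k : ℕ} (hn : n = 2 * k) {a : ℂ} (ha : 0 < a.re)
    (p : Fin n → ℤ) :
    Integrable (fun u : Fin n → ℝ =>
      UnitAddTorus.mFourier (-(A *ᵥ p)) (fun i => (u i : UnitAddCircle)) * gauss A a u) ∧
    ∫ u : Fin n → ℝ, UnitAddTorus.mFourier (-(A *ᵥ p)) (fun i => (u i : UnitAddCircle)) * gauss A a u
      = a⁻¹ ^ k * gauss A a⁻¹ (rv p) := by
  have hb : 0 < ((π : ℂ) * a).re := by simp [ha, Real.pi_pos]
  set c : Fin n → ℂ := fun i => -(2 * π * I) * ((R *ᵥ rv p) i : ℂ) with hc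
  set g : (Fin n → ℝ) → ℂ := fun v => cexp (-((π : ℂ) * a) * ∑ i, (v i : ℂ) ^ 2 + ∑ i, c i * v i)
    with hg
  have hgi : Integrable g := GaussianFourier.integrable_cexp_neg_mul_sum_add hb c
  have hcomp : (fun u : Fin n → ℝ =>
      UnitAddTorus.mFourier (-(A *ᵥ p)) (fun i => (u i : UnitAddCircle)) * gauss A a u) =
      g ∘ Matrix.toLin' R := by
    funext u
    rw [gauss_twist h]
    simp [hg, hc, Matrix.toLin'_apply]
  rw [hcomp]
  refine ⟨((root_measurePreserving h).integrable_comp_emb (root_embedding h)).2 hgi, ?_⟩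
  simp only [Function.comp_def]
  rw [(root_measurePreserving h).integral_comp (root_embedding h) g,
    GaussianFourier.integral_cexp_neg_mul_sum_add hb c, Fintype.card_fin]
  have hpi : (π : ℂ) ≠ 0 := Complex.ofReal_ne_zero.2 Real.pi_ne_zero
  have ha0 : a ≠ 0 := fun e => by simp [e] at ha
  congr 1
  · rw [show ((n : ℂ) / 2) = (k : ℂ) by rw [hn]; push_cast; ring, Complex.cpow_natCast]
    congr 1
    field_simp
  · rw [gauss, h.qf_eq]
    congr 1
    simp only [hc, mul_pow, ← Finset.mul_sum, neg_sq, I_sq]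
    push_cast
    field_simp
    ring

/-- The lattice map `p ↦ A p`. -/
def latticeEquiv (A : Matrix (Fin n) (Fin n) ℤ) (hdet : A.det = 1) : (Fin n → ℤ) ≃ (Fin n → ℤ) where
  toFun p := A *ᵥ p
  invFun m := A⁻¹ *ᵥ m
  left_inv p := by simp [mulVec_mulVec, nonsing_inv_mul _ (by simp [hdet] : IsUnit A.det)]
  right_inv m := by simp [mulVec_mulVec, mul_nonsing_inv _ (by simp [hdet] : IsUnit A.det)]

/-- Poisson summation for the theta series of a unimodular lattice. -/
theorem tsum_gauss_eq (hsymm : A.IsSymm)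
    (hpos : ∀ x : Fin n → ℤ, x ≠ 0 → 0 < x ⬝ᵥ (A *ᵥ x)) (hdet : A.det = 1)
    {k : ℕ} (hn : n = 2 * k) {a : ℂ} (ha : 0 < a.re) :
    ∑' x : Fin n → ℤ, gauss A a (rv x) = a⁻¹ ^ k * ∑' x : Fin n → ℤ, gauss A a⁻¹ (rv x) := by
  obtain ⟨R, h1, h2, h3⟩ := exists_root hsymm hpos hdet
  have h : Root A R := ⟨h1, h2, h3⟩
  let F : C(UnitAddTorus (Fin n), ℂ) := ⟨perTorus A a, continuous_perTorus h ha⟩
  have hcoef : ∀ p : Fin n → ℤ,
      UnitAddTorus.mFourierCoeff F (A *ᵥ p) = a⁻¹ ^ k * gauss A a⁻¹ (rv p) := by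
    intro p
    obtain ⟨hint, hval⟩ := fourier_gauss h hn ha p
    set E := fun u : Fin n → ℝ =>
      UnitAddTorus.mFourier (-(A *ᵥ p)) (fun i => (u i : UnitAddCircle))
    rw [← hval, UnitAddTorus.mFourierCoeff_eq_integral _ _ 0]
    have hset : {x : Fin n → ℝ | ∀ i, x i ∈ Set.Ioc ((0 : Fin n → ℝ) i) ((0 : Fin n → ℝ) i + 1)}
        = cube 0 := by simp [cube]
    rw [hset]
    have hsum := tsum_integral_cube hint
    have hnorm := (tsum_integral_cube hint.norm).summable
    have hper : ∀ (u : Fin n → ℝ) (x : Fin n → ℤ), E (u + rv x) = E u := by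
      intro u x
      refine congrArg (UnitAddTorus.mFourier _) (funext fun i => ?_)
      simp [rv]
    rw [← hsum.tsum_eq, integral_tsum_of_summable_integral_norm (fun x => ?_) hnorm]
    · refine setIntegral_congr_fun (measurableSet_cube 0) fun u _ => ?_
      show E u • perTorus A a _ = ∑' x, E (u + rv x) * gauss A a (u + rv x)
      rw [perTorus_coe, per, smul_eq_mul, ← tsum_mul_left]
      exact tsum_congr fun x => by rw [hper]
    · exact (hint.comp_add_right (rv x)).integrableOn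
  let e := latticeEquiv A hdet
  have ha' : 0 < a⁻¹.re := by
    rw [Complex.inv_re]
    exact div_pos ha (Complex.normSq_pos.2 fun e' => by simp [e'] at ha)
  have hsummable : Summable (UnitAddTorus.mFourierCoeff F) := by
    rw [← e.summable_iff]
    exact ((summable_gauss h ha').mul_left _).congr fun p => (hcoef p).symm
  have h0 := (UnitAddTorus.hasSum_mFourier_series_apply_of_summable hsummable
    (fun _ => ((0 : ℝ) : UnitAddCircle))).tsum_eq
  have hF : F (fun _ => ((0 : ℝ) : UnitAddCircle)) = ∑' x : Fin n → ℤ, gauss A a (rv x) := by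
    show perTorus A a _ = _
    rw [perTorus_coe A a (fun _ => (0 : ℝ)), per]
    exact tsum_congr fun x => congrArg (gauss A a) (funext fun i => by simp)
  rw [← hF, ← h0, ← tsum_mul_left, ← e.tsum_eq]
  refine tsum_congr fun p => ?_
  rw [show e p = A *ᵥ p from rfl, hcoef, smul_eq_mul]
  simp [UnitAddTorus.mFourier]

end CfsgLib.Lattice
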